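import Mathlib.LinearAlgebra.TensorProduct.Quotient
import Mathlib.LinearAlgebra.Projection
import Mathlib.Algebra.Module.Projective
import Mathlib.LinearAlgebra.TensorProduct.Tower
import Mathlib.RingTheory.TensorProduct.Basic
import Mathlib.RingTheory.Ideal.Quotient.Operations
import Mathlib.Algebra.Exact.Basic

/-!
Lifting direct summands along a square-zero thickening, compatibly with a short exact sequence.
-/

set_option autoImplicit false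
universe u v

namespace GrothLib.SummandLift

open TensorProduct

variable {R : Type u} [CommRing R] (𝔫 : Ideal R) {H : Type v} [AddCommGroup H] [Module R H]

theorem mk_one_surjective (z : (R ⧸ 𝔫) ⊗[R] H) : ∃ x : H, (1 : R ⧸ 𝔫) ⊗ₜ[R] x = z := by
  induction z using TensorProduct.induction_on with
  | zero => exact ⟨0, tmul_zero _ _⟩
  | tmul a x =>
    obtain ⟨r, rfl⟩ := Ideal.Quotient.mk_surjective a
    refine ⟨r • x, ?_⟩
    rw [← smul_tmul, Algebra.smul_def, Ideal.Quotient.algebraMap_eq, mul_one]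
  | add a b ha hb =>
    obtain ⟨x, rfl⟩ := ha
    obtain ⟨y, rfl⟩ := hb
    exact ⟨x + y, tmul_add _ _ _⟩

theorem mk_one_eq_zero_iff (x : H) :
    (1 : R ⧸ 𝔫) ⊗ₜ[R] x = 0 ↔ x ∈ 𝔫 • (⊤ : Submodule R H) := by
  rw [← (quotTensorEquivQuotSMul H 𝔫).map_eq_zero_iff,
    show (1 : R ⧸ 𝔫) = Ideal.Quotient.mk 𝔫 1 from rfl, quotTensorEquivQuotSMul_mk_tmul, one_smul,
    Submodule.Quotient.mk_eq_zero]

/-- The preimage in `H` of a submodule of the reduction. -/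
def preimage (Fb : Submodule (R ⧸ 𝔫) ((R ⧸ 𝔫) ⊗[R] H)) : Submodule R H :=
  (Fb.restrictScalars R).comap (TensorProduct.mk R (R ⧸ 𝔫) H 1)

theorem mem_baseChange_iff (F : Submodule R H) (x : H) :
    (1 : R ⧸ 𝔫) ⊗ₜ[R] x ∈ F.baseChange (R ⧸ 𝔫) ↔ x ∈ F ⊔ 𝔫 • (⊤ : Submodule R H) := by
  constructor
  · intro hx
    have key : ∀ z ∈ F.baseChange (R ⧸ 𝔫), ∃ y ∈ F, (1 : R ⧸ 𝔫) ⊗ₜ[R] y = z := by
      intro z hz
      rw [Submodule.baseChange_eq_span] at hz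
      induction hz using Submodule.span_induction with
      | mem w hw => obtain ⟨y, hy, rfl⟩ := hw; exact ⟨y, hy, rfl⟩
      | zero => exact ⟨0, zero_mem _, tmul_zero _ _⟩
      | add a b _ _ ha hb =>
        obtain ⟨y, hy, rfl⟩ := ha
        obtain ⟨w, hw, rfl⟩ := hb
        exact ⟨y + w, add_mem hy hw, tmul_add _ _ _⟩
      | smul c a _ ha =>
        obtain ⟨y, hy, rfl⟩ := ha
        obtain ⟨r, rfl⟩ := Ideal.Quotient.mk_surjective c
        refine ⟨r • y, F.smul_mem r hy, ?_⟩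
        rw [tmul_smul, ← Ideal.Quotient.algebraMap_eq, algebraMap_smul]
    obtain ⟨y, hy, hyx⟩ := key _ hx
    have h0 : (1 : R ⧸ 𝔫) ⊗ₜ[R] (x - y) = 0 := by rw [tmul_sub, hyx, sub_self]
    rw [mk_one_eq_zero_iff] at h0
    have := Submodule.add_mem_sup hy h0
    rwa [add_sub_cancel] at this
  · intro hx
    obtain ⟨y, hy, n, hn, rfl⟩ := Submodule.mem_sup.1 hx
    rw [tmul_add, (mk_one_eq_zero_iff 𝔫 n).2 hn, add_zero]
    exact Submodule.tmul_mem_baseChange_of_mem _ hy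

theorem baseChange_eq_iff (F : Submodule R H) (Fb : Submodule (R ⧸ 𝔫) ((R ⧸ 𝔫) ⊗[R] H)) :
    F.baseChange (R ⧸ 𝔫) = Fb ↔ F ⊔ 𝔫 • (⊤ : Submodule R H) = preimage 𝔫 Fb := by
  constructor
  · rintro rfl
    ext x
    exact (mem_baseChange_iff 𝔫 F x).symm
  · intro h
    ext z
    obtain ⟨x, rfl⟩ := mk_one_surjective 𝔫 z
    rw [mem_baseChange_iff, h]
    rfl

theorem map_mem_smul_top {M N : Type v} [AddCommGroup M] [Module R M] [AddCommGroup N] [Module R N]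
    (l : M →ₗ[R] N) {x : M} (hx : x ∈ 𝔫 • (⊤ : Submodule R M)) : l x ∈ 𝔫 • (⊤ : Submodule R N) := by
  have h : l x ∈ Submodule.map l (𝔫 • ⊤) := Submodule.mem_map_of_mem hx
  rw [Submodule.map_smul''] at h
  exact Submodule.smul_mono le_rfl le_top h

/-- The data: a split exact sequence and complemented submodules of the outer terms. -/
structure Setup (H₁ H₂ : Type v) [AddCommGroup H₁] [Module R H₁] [AddCommGroup H₂] [Module R H₂]
    (f : H₁ →ₗ[R] H) (g : H →ₗ[R] H₂) (F₁ : Submodule R H₁) (F₂ : Submodule R H₂)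
    (P : Submodule R H) : Prop where
  inj : Function.Injective f
  exact' : Function.Exact f g
  retraction : ∃ ρ : H →ₗ[R] H₁, ρ.comp f = LinearMap.id
  section' : ∃ σ : H₂ →ₗ[R] H, g.comp σ = LinearMap.id
  compl₁ : ∃ C : Submodule R H₁, IsCompl F₁ C
  compl₂ : ∃ C : Submodule R H₂, IsCompl F₂ C
  proj₂ : Module.Projective R F₂
  smul_le : 𝔫 • (⊤ : Submodule R H) ≤ P
  map_le : F₁.map f ≤ P
  mem_of : ∀ a, f a ∈ P → a ∈ F₁ ⊔ 𝔫 • (⊤ : Submodule R H₁)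
  exists_lift : ∀ y ∈ F₂, ∃ x ∈ P, g x - y ∈ 𝔫 • (⊤ : Submodule R H₂)
  image_le : ∀ x ∈ P, g x ∈ F₂ ⊔ 𝔫 • (⊤ : Submodule R H₂)

variable {H₁ H₂ : Type v} [AddCommGroup H₁] [Module R H₁] [AddCommGroup H₂] [Module R H₂]
  (f : H₁ →ₗ[R] H) (g : H →ₗ[R] H₂)

theorem setup_of (hf : Function.Injective f) (hg : Function.Surjective g) (hfg : Function.Exact f g)
    [Module.Free R H₂] (F₁ : Submodule R H₁) (F₂ : Submodule R H₂)
    [Module.Free R (H₁ ⧸ F₁)] [Module.Free R (H₂ ⧸ F₂)]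
    (Fb : Submodule (R ⧸ 𝔫) ((R ⧸ 𝔫) ⊗[R] H))
    (h1 : Fb ⊓ LinearMap.range (f.baseChange (R ⧸ 𝔫)) =
      Submodule.map (f.baseChange (R ⧸ 𝔫)) (F₁.baseChange (R ⧸ 𝔫)))
    (h2 : Submodule.map (g.baseChange (R ⧸ 𝔫)) Fb = F₂.baseChange (R ⧸ 𝔫)) :
    Setup 𝔫 H₁ H₂ f g F₁ F₂ (preimage 𝔫 Fb) := by
  obtain ⟨σ, hσ⟩ := Module.projective_lifting_property g LinearMap.id hg
  have hret : ∃ ρ : H →ₗ[R] H₁, ρ.comp f = LinearMap.id := by
    have hmem : ∀ x, x - σ (g x) ∈ LinearMap.range f := fun x =>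
      (hfg _).1 (by rw [map_sub, show g (σ (g x)) = g x from LinearMap.congr_fun hσ (g x), sub_self])
    let e := LinearEquiv.ofInjective f hf
    refine ⟨e.symm.toLinearMap.comp ((LinearMap.id - σ.comp g).codRestrict _ hmem), LinearMap.ext fun a => ?_⟩
    refine hf ((congrArg Subtype.val (e.apply_symm_apply ⟨f a - σ (g (f a)), hmem _⟩)).trans ?_)
    show f a - σ (g (f a)) = f a
    rw [hfg.apply_apply_eq_zero, map_zero, sub_zero]
  obtain ⟨ρ, hρ⟩ := hret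
  have hc1 : ∃ C : Submodule R H₁, IsCompl F₁ C := by
    obtain ⟨s, hs⟩ := Module.projective_lifting_property F₁.mkQ LinearMap.id F₁.mkQ_surjective
    refine ⟨LinearMap.range s, IsCompl.of_eq ?_ ?_⟩
    · rw [eq_bot_iff]
      rintro _ ⟨hx, y, rfl⟩
      have h0 : F₁.mkQ (s y) = 0 := (Submodule.Quotient.mk_eq_zero _).2 hx
      rw [show F₁.mkQ (s y) = y from LinearMap.congr_fun hs y] at h0
      simp [h0]
    · rw [eq_top_iff]
      intro x _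
      rw [show x = (x - s (F₁.mkQ x)) + s (F₁.mkQ x) from (sub_add_cancel _ _).symm]
      refine Submodule.add_mem_sup ?_ ⟨_, rfl⟩
      rw [← Submodule.Quotient.mk_eq_zero]
      show F₁.mkQ (x - s (F₁.mkQ x)) = 0
      rw [map_sub, show F₁.mkQ (s (F₁.mkQ x)) = F₁.mkQ x from LinearMap.congr_fun hs _, sub_self]
  obtain ⟨s, hs⟩ := Module.projective_lifting_property F₂.mkQ LinearMap.id F₂.mkQ_surjective
  have hs' : ∀ x, x - s (F₂.mkQ x) ∈ F₂ := fun x => by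
    rw [← Submodule.Quotient.mk_eq_zero]
    show F₂.mkQ (x - s (F₂.mkQ x)) = 0
    rw [map_sub, show F₂.mkQ (s (F₂.mkQ x)) = F₂.mkQ x from LinearMap.congr_fun hs _, sub_self]
  have hc2 : IsCompl F₂ (LinearMap.range s) := by
    refine IsCompl.of_eq ?_ ?_
    · rw [eq_bot_iff]
      rintro _ ⟨hx, y, rfl⟩
      have h0 : F₂.mkQ (s y) = 0 := (Submodule.Quotient.mk_eq_zero _).2 hx
      rw [show F₂.mkQ (s y) = y from LinearMap.congr_fun hs y] at h0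
      simp [h0]
    · rw [eq_top_iff]
      intro x _
      rw [show x = (x - s (F₂.mkQ x)) + s (F₂.mkQ x) from (sub_add_cancel _ _).symm]
      exact Submodule.add_mem_sup (hs' x) ⟨_, rfl⟩
  have hproj : Module.Projective R F₂ :=
    Module.Projective.of_split F₂.subtype ((LinearMap.id - s.comp F₂.mkQ).codRestrict F₂ hs')
      (LinearMap.ext fun x => Subtype.ext (by simp [(Submodule.Quotient.mk_eq_zero F₂).2 x.2]))
  refine ⟨hf, hfg, ⟨ρ, hρ⟩, ⟨σ, hσ⟩, hc1, ⟨_, hc2⟩, hproj, ?_, ?_, ?_, ?_, ?_⟩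
  · intro x hx
    show (1 : R ⧸ 𝔫) ⊗ₜ[R] x ∈ Fb
    rw [(mk_one_eq_zero_iff 𝔫 x).2 hx]
    exact zero_mem _
  · rintro _ ⟨a, ha, rfl⟩
    have : (1 : R ⧸ 𝔫) ⊗ₜ[R] f a ∈ Submodule.map (f.baseChange (R ⧸ 𝔫)) (F₁.baseChange (R ⧸ 𝔫)) :=
      ⟨_, Submodule.tmul_mem_baseChange_of_mem _ ha, LinearMap.baseChange_tmul _ _ _⟩
    rw [← h1] at this
    exact this.1
  · intro a ha
    have hmem : (1 : R ⧸ 𝔫) ⊗ₜ[R] f a ∈ Fb ⊓ LinearMap.range (f.baseChange (R ⧸ 𝔫)) :=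
      ⟨ha, ⟨_, LinearMap.baseChange_tmul _ _ _⟩⟩
    rw [h1] at hmem
    obtain ⟨z, hz, hzf⟩ := hmem
    obtain ⟨b, rfl⟩ := mk_one_surjective 𝔫 z
    rw [SetLike.mem_coe, mem_baseChange_iff] at hz
    rw [LinearMap.baseChange_tmul, ← sub_eq_zero, ← tmul_sub, mk_one_eq_zero_iff] at hzf
    have h := map_mem_smul_top 𝔫 ρ hzf
    rw [map_sub, show ρ (f b) = b from LinearMap.congr_fun hρ b,
      show ρ (f a) = a from LinearMap.congr_fun hρ a] at h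
    have := Submodule.sub_mem _ hz (Submodule.mem_sup_right h)
    rwa [sub_sub_cancel] at this
  · intro y hy
    have : (1 : R ⧸ 𝔫) ⊗ₜ[R] y ∈ Submodule.map (g.baseChange (R ⧸ 𝔫)) Fb :=
      h2.symm ▸ Submodule.tmul_mem_baseChange_of_mem _ hy
    obtain ⟨z, hz, hzy⟩ := this
    obtain ⟨x, rfl⟩ := mk_one_surjective 𝔫 z
    refine ⟨x, hz, (mk_one_eq_zero_iff 𝔫 _).1 ?_⟩
    rw [tmul_sub, sub_eq_zero, ← hzy, LinearMap.baseChange_tmul]
  · intro x hx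
    rw [← mem_baseChange_iff, ← h2]
    exact ⟨_, hx, LinearMap.baseChange_tmul _ _ _⟩

variable {𝔫 f g} {F₁ : Submodule R H₁} {F₂ : Submodule R H₂} {P : Submodule R H}

theorem exists_lift (S : Setup 𝔫 H₁ H₂ f g F₁ F₂ P) :
    ∃ F : Submodule R H, (∃ C, IsCompl F C) ∧ F ⊓ LinearMap.range f = F₁.map f ∧
      F ⊔ 𝔫 • (⊤ : Submodule R H) = P ∧ F.map g = F₂ := by
  obtain ⟨σ, hσ⟩ := S.section'
  have hσ' : ∀ y, g (σ y) = y := LinearMap.congr_fun hσ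
  let W : Submodule R H := P ⊓ F₂.comap g
  have hW : Function.Surjective ((g.comp W.subtype).codRestrict F₂ fun x => x.2.2) := by
    rintro ⟨y, hy⟩
    obtain ⟨x, hx, hxy⟩ := S.exists_lift y hy
    refine ⟨⟨x - σ (g x - y), P.sub_mem hx (S.smul_le (map_mem_smul_top 𝔫 σ hxy)), ?_⟩, Subtype.ext ?_⟩
    · show g (x - σ (g x - y)) ∈ F₂
      rwa [map_sub, hσ', sub_sub_cancel]
    · show g (x - σ (g x - y)) = y
      rw [map_sub, hσ', sub_sub_cancel]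
  have := S.proj₂
  obtain ⟨s₀, hs₀⟩ := Module.projective_lifting_property _ LinearMap.id hW
  let s : F₂ →ₗ[R] H := W.subtype.comp s₀
  have hsg : ∀ y, g (s y) = y := fun y => congrArg Subtype.val (LinearMap.congr_fun hs₀ y)
  have hsP : ∀ y, s y ∈ P := fun y => (s₀ y).2.1
  obtain ⟨C₁, hC₁⟩ := S.compl₁
  obtain ⟨C₂, hC₂⟩ := S.compl₂
  refine ⟨F₁.map f ⊔ LinearMap.range s, ⟨C₁.map f ⊔ C₂.map σ, IsCompl.of_eq ?_ ?_⟩, ?_, ?_, ?_⟩
  · rw [eq_bot_iff]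
    rintro x ⟨hx, hx'⟩
    obtain ⟨_, ⟨a, ha, rfl⟩, _, ⟨y, rfl⟩, rfl⟩ := Submodule.mem_sup.1 hx
    obtain ⟨_, ⟨c, hc, rfl⟩, _, ⟨d, hd, rfl⟩, heq⟩ := Submodule.mem_sup.1 hx'
    have hg' := congrArg g heq
    simp only [map_add, S.exact'.apply_apply_eq_zero, zero_add, hσ', hsg] at hg'
    have h0 : (y : H₂) = 0 := (Submodule.mem_bot R).1 (hC₂.inf_eq_bot ▸ ⟨y.2, hg' ▸ hd⟩)
    have hy : y = 0 := Subtype.ext h0
    have hd0 : d = 0 := hg'.trans h0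
    rw [hd0, hy, map_zero, map_zero, add_zero, add_zero] at heq
    have : a ∈ F₁ ⊓ C₁ := ⟨ha, (S.inj heq) ▸ hc⟩
    rw [hC₁.inf_eq_bot, Submodule.mem_bot] at this
    simp [this, hy]
  · rw [eq_top_iff]
    intro x _
    obtain ⟨y, hy, d, hd, hyd⟩ := Submodule.mem_sup.1 (hC₂.sup_eq_top ▸ (Submodule.mem_top (x := g x)))
    obtain ⟨a, ha⟩ := (S.exact' (x - s ⟨y, hy⟩ - σ d)).1 (by
      rw [map_sub, map_sub, hsg, hσ']
      show g x - y - d = 0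
      rw [← hyd]; abel)
    obtain ⟨a₁, ha₁, c, hc, hac⟩ := Submodule.mem_sup.1 (hC₁.sup_eq_top ▸ (Submodule.mem_top (x := a)))
    rw [show x = (f a₁ + s ⟨y, hy⟩) + (f c + σ d) by
      rw [← hac, map_add] at ha
      rw [eq_sub_iff_add_eq, eq_sub_iff_add_eq] at ha
      rw [← ha]; abel]
    exact Submodule.add_mem_sup (Submodule.add_mem_sup ⟨a₁, ha₁, rfl⟩ ⟨_, rfl⟩)
      (Submodule.add_mem_sup ⟨c, hc, rfl⟩ ⟨d, hd, rfl⟩)
  · refine le_antisymm ?_ (le_inf le_sup_left ?_)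
    · rintro x ⟨hx, b, hb⟩
      obtain ⟨_, ⟨a, ha, rfl⟩, _, ⟨y, rfl⟩, rfl⟩ := Submodule.mem_sup.1 hx
      have hg' := congrArg g hb
      simp only [map_add, S.exact'.apply_apply_eq_zero, zero_add, hsg] at hg'
      rw [show y = 0 from Subtype.ext hg'.symm, map_zero, add_zero]
      exact ⟨a, ha, rfl⟩
    · rintro _ ⟨a, -, rfl⟩; exact ⟨a, rfl⟩
  · refine le_antisymm (sup_le (sup_le S.map_le ?_) S.smul_le) ?_
    · rintro _ ⟨y, rfl⟩; exact hsP y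
    · intro x hx
      obtain ⟨y, hy, n, hn, hyn⟩ := Submodule.mem_sup.1 (S.image_le x hx)
      obtain ⟨a, ha⟩ := (S.exact' (x - s ⟨y, hy⟩ - σ n)).1 (by
        rw [map_sub, map_sub, hsg, hσ']
        show g x - y - n = 0
        rw [← hyn]; abel)
      have hfa : f a ∈ P := ha ▸ P.sub_mem (P.sub_mem hx (hsP _)) (S.smul_le (map_mem_smul_top 𝔫 σ hn))
      obtain ⟨a₁, ha₁, m, hm, ham⟩ := Submodule.mem_sup.1 (S.mem_of a hfa)
      rw [show x = (f a₁ + s ⟨y, hy⟩) + (f m + σ n) by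
        rw [← ham, map_add, eq_sub_iff_add_eq, eq_sub_iff_add_eq] at ha
        rw [← ha]; abel]
      exact Submodule.add_mem_sup (Submodule.add_mem_sup ⟨a₁, ha₁, rfl⟩ ⟨_, rfl⟩)
        (Submodule.add_mem _ (map_mem_smul_top 𝔫 f hm) (map_mem_smul_top 𝔫 σ hn))
  · refine le_antisymm ?_ ?_
    · rw [Submodule.map_sup, sup_le_iff]
      refine ⟨?_, ?_⟩
      · rintro _ ⟨_, ⟨a, -, rfl⟩, rfl⟩
        rw [S.exact'.apply_apply_eq_zero]
        exact zero_mem _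
      · rintro _ ⟨_, ⟨y, rfl⟩, rfl⟩
        rw [hsg]; exact y.2
    · intro y hy
      exact ⟨s ⟨y, hy⟩, Submodule.mem_sup_right ⟨_, rfl⟩, hsg _⟩

/-- The automorphism `id + f u g`. -/
def shear (f : H₁ →ₗ[R] H) (g : H →ₗ[R] H₂) (u : H₂ →ₗ[R] H₁) (h : ∀ a, g (f a) = 0) : H ≃ₗ[R] H :=
  LinearEquiv.ofLinearMap (LinearMap.id + f ∘ₗ u ∘ₗ g) (LinearMap.id - f ∘ₗ u ∘ₗ g)
    (LinearMap.ext fun x => by simp [h])
    (LinearMap.ext fun x => by simp [h])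

theorem smul_top_inf_le (S : Setup 𝔫 H₁ H₂ f g F₁ F₂ P) {a : H₁} (ha : a ∈ F₁)
    (ha' : a ∈ 𝔫 • (⊤ : Submodule R H₁)) : a ∈ 𝔫 • F₁ := by
  obtain ⟨C₁, hC₁⟩ := S.compl₁
  have h : F₁.subtype.comp (F₁.projectionOnto C₁ hC₁) a ∈ Submodule.map (F₁.subtype.comp (F₁.projectionOnto C₁ hC₁)) (𝔫 • ⊤) :=
    Submodule.mem_map_of_mem ha'
  rw [Submodule.map_smul''] at h
  have hval : F₁.subtype.comp (F₁.projectionOnto C₁ hC₁) a = a := by
    show ((F₁.projectionOnto C₁ hC₁ a : F₁) : H₁) = a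
    rw [Submodule.projectionOnto_apply_left hC₁ ⟨a, ha⟩]
  rw [hval] at h
  refine Submodule.smul_mono le_rfl ?_ h
  rintro _ ⟨x, -, rfl⟩
  exact Subtype.mem _

theorem torsor (S : Setup 𝔫 H₁ H₂ f g F₁ F₂ P) (F F' : Submodule R H)
    (hF : (∃ C, IsCompl F C) ∧ F ⊓ LinearMap.range f = F₁.map f ∧
      F ⊔ 𝔫 • (⊤ : Submodule R H) = P ∧ F.map g = F₂)
    (hF' : F' ⊓ LinearMap.range f = F₁.map f ∧ F' ⊔ 𝔫 • (⊤ : Submodule R H) = P ∧ F'.map g = F₂) :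
    (∀ u : H₂ →ₗ[R] H₁, (∀ y, u y ∈ 𝔫 • (⊤ : Submodule R H₁)) →
      (∃ C, IsCompl (F.map (LinearMap.id + f ∘ₗ u ∘ₗ g)) C) ∧
      F.map (LinearMap.id + f ∘ₗ u ∘ₗ g) ⊓ LinearMap.range f = F₁.map f ∧
      F.map (LinearMap.id + f ∘ₗ u ∘ₗ g) ⊔ 𝔫 • (⊤ : Submodule R H) = P ∧
      (F.map (LinearMap.id + f ∘ₗ u ∘ₗ g)).map g = F₂) ∧
    (∀ u : H₂ →ₗ[R] H₁, (∀ y, u y ∈ 𝔫 • (⊤ : Submodule R H₁)) →
      (F.map (LinearMap.id + f ∘ₗ u ∘ₗ g) = F ↔ ∀ y ∈ F₂, u y ∈ 𝔫 • F₁)) ∧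
    ∃ u : H₂ →ₗ[R] H₁, (∀ y, u y ∈ 𝔫 • (⊤ : Submodule R H₁)) ∧ F' = F.map (LinearMap.id + f ∘ₗ u ∘ₗ g) := by
  obtain ⟨⟨C, hC⟩, hFi, hFs, hFg⟩ := hF
  obtain ⟨hFi', hFs', hFg'⟩ := hF'
  have h0 := S.exact'.apply_apply_eq_zero
  refine ⟨fun u hu => ?_, fun u hu => ?_, ?_⟩
  · set φ := LinearMap.id + f ∘ₗ u ∘ₗ g with hφ
    have hgφ : ∀ x, g (φ x) = g x := fun x => by simp [hφ, h0]
    have hdiff : ∀ x, φ x - x ∈ 𝔫 • (⊤ : Submodule R H) := fun x => by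
      rw [show φ x - x = f (u (g x)) by simp [hφ]]
      exact map_mem_smul_top 𝔫 f (hu _)
    refine ⟨⟨C.map φ, ?_⟩, ?_, ?_, ?_⟩
    · exact (OrderIso.isCompl_iff (Submodule.orderIsoMapComap (shear f g u h0))).1 hC
    · refine le_antisymm ?_ ?_
      · rintro _ ⟨⟨x, hx, rfl⟩, b, hb⟩
        have hgx : g x = 0 := by rw [← hgφ, ← hb, h0]
        have : φ x = x := by simp [hφ, hgx]
        rw [this] at hb ⊢
        rw [← hFi]
        exact ⟨hx, b, hb⟩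
      · rintro _ ⟨a, ha, rfl⟩
        have hmem : f a ∈ F ⊓ LinearMap.range f := hFi ▸ ⟨a, ha, rfl⟩
        exact ⟨⟨f a, hmem.1, by simp [hφ, h0]⟩, a, rfl⟩
    · rw [← hFs]
      refine le_antisymm (sup_le ?_ le_sup_right) (sup_le ?_ le_sup_right)
      · rintro _ ⟨x, hx, rfl⟩
        rw [show φ x = x + (φ x - x) by abel]
        exact Submodule.add_mem_sup hx (hdiff x)
      · intro x hx
        rw [show x = φ x + -(φ x - x) by abel]
        exact Submodule.add_mem_sup ⟨x, hx, rfl⟩ (Submodule.neg_mem _ (hdiff x))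
    · rw [← Submodule.map_comp, show g.comp φ = g from LinearMap.ext hgφ, hFg]
  · constructor
    · intro heq y hy
      obtain ⟨x, hx, rfl⟩ := hFg.symm ▸ hy
      have hx' : ((LinearMap.id : H →ₗ[R] H) + f ∘ₗ u ∘ₗ g) x ∈ F := heq ▸ ⟨x, hx, rfl⟩
      have hfu : f (u (g x)) ∈ F ⊓ LinearMap.range f :=
        ⟨by simpa using F.sub_mem hx' hx, ⟨_, rfl⟩⟩
      rw [hFi] at hfu
      obtain ⟨a, ha, hfa⟩ := hfu
      exact smul_top_inf_le S (S.inj hfa ▸ ha) (hu _)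
    · intro h
      have hmem : ∀ x ∈ F, f (u (g x)) ∈ F := fun x hx => by
        have h1 : f (u (g x)) ∈ F₁.map f :=
          ⟨_, Submodule.smul_le_right (h _ (hFg ▸ ⟨x, hx, rfl⟩)), rfl⟩
        rw [← hFi] at h1
        exact h1.1
      refine le_antisymm ?_ fun x hx => ⟨x - f (u (g x)), F.sub_mem hx (hmem x hx), by simp [h0]⟩
      rintro _ ⟨x, hx, rfl⟩
      simpa using F.add_mem hx (hmem x hx)
  · have := S.proj₂
    have hsurj : ∀ (G : Submodule R H), G.map g = F₂ →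
        ∃ s : F₂ →ₗ[R] H, (∀ y, s y ∈ G) ∧ ∀ y, g (s y) = y := fun G hG => by
      obtain ⟨s₀, hs₀⟩ := Module.projective_lifting_property
        ((g.comp G.subtype).codRestrict F₂ fun x => hG ▸ ⟨x, x.2, rfl⟩) LinearMap.id (by
          rintro ⟨y, hy⟩
          obtain ⟨x, hx, rfl⟩ := hG.symm ▸ hy
          exact ⟨⟨x, hx⟩, rfl⟩)
      exact ⟨G.subtype.comp s₀, fun y => (s₀ y).2, fun y => congrArg Subtype.val (LinearMap.congr_fun hs₀ y)⟩
    obtain ⟨s, hs, hsg⟩ := hsurj F hFg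
    obtain ⟨s', hs', hsg'⟩ := hsurj F' hFg'
    obtain ⟨ρ, hρ⟩ := S.retraction
    obtain ⟨C₁, hC₁⟩ := S.compl₁
    obtain ⟨C₂, hC₂⟩ := S.compl₂
    let d : F₂ →ₗ[R] H₁ := ρ.comp (s' - s)
    have hd : ∀ y, f (d y) = s' y - s y := fun y => by
      obtain ⟨a, ha⟩ := (S.exact' (s' y - s y)).1 (by rw [map_sub, hsg, hsg', sub_self])
      show f (ρ (s' y - s y)) = _
      rw [← ha, show ρ (f a) = a from LinearMap.congr_fun hρ a]
    let πC : H₁ →ₗ[R] H₁ := C₁.subtype.comp (C₁.projectionOnto F₁ hC₁.symm)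
    let πF : H₁ →ₗ[R] H₁ := LinearMap.id - πC
    have hπF : ∀ a, πF a ∈ F₁ := fun a => by
      rw [← Submodule.projectionOnto_apply_eq_zero_iff hC₁.symm]
      show C₁.projectionOnto F₁ hC₁.symm (a - (C₁.projectionOnto F₁ hC₁.symm a : H₁)) = 0
      rw [map_sub, Submodule.projectionOnto_apply_left, sub_self]
    have hπn : ∀ y, πC (d y) ∈ 𝔫 • (⊤ : Submodule R H₁) := fun y => by
      have hP : f (d y) ∈ P := by
        rw [hd]
        exact P.sub_mem (hFs' ▸ Submodule.mem_sup_left (hs' y)) (hFs ▸ Submodule.mem_sup_left (hs y))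
      obtain ⟨a, ha, n, hn, han⟩ := Submodule.mem_sup.1 (S.mem_of _ hP)
      rw [← han, map_add,
        show πC a = 0 by
          show ((C₁.projectionOnto F₁ hC₁.symm a : C₁) : H₁) = 0
          rw [(Submodule.projectionOnto_apply_eq_zero_iff hC₁.symm).2 ha]; rfl, zero_add]
      exact map_mem_smul_top 𝔫 πC hn
    let u : H₂ →ₗ[R] H₁ := πC.comp (d.comp (F₂.projectionOnto C₂ hC₂))
    refine ⟨u, fun y => hπn _, ?_⟩
    have hu : ∀ y : F₂, u y = πC (d y) := fun y => by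
      show πC (d (F₂.projectionOnto C₂ hC₂ y)) = _
      rw [Submodule.projectionOnto_apply_left]
    have hF₁ : ∀ a ∈ F₁, f a ∈ F ∧ f a ∈ F' := fun a ha => by
      have h1 : f a ∈ F ⊓ LinearMap.range f := hFi ▸ ⟨a, ha, rfl⟩
      have h2 : f a ∈ F' ⊓ LinearMap.range f := hFi' ▸ ⟨a, ha, rfl⟩
      exact ⟨h1.1, h2.1⟩
    have key : ∀ y : F₂, ((LinearMap.id : H →ₗ[R] H) + f ∘ₗ u ∘ₗ g) (s y) = s' y - f (πF (d y)) := fun y => by
      have : d y = πC (d y) + πF (d y) := by simp [πF]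
      have h1 := hd y
      rw [this, map_add] at h1
      simp only [LinearMap.add_apply, LinearMap.id_apply, LinearMap.comp_apply, hsg, hu]
      rw [sub_eq_iff_eq_add'.1 h1.symm]
      abel
    refine le_antisymm ?_ ?_
    · intro x hx
      let y : F₂ := ⟨g x, hFg' ▸ ⟨x, hx, rfl⟩⟩
      obtain ⟨a, ha⟩ := (S.exact' (x - s' y)).1 (by rw [map_sub, hsg']; exact sub_self _)
      have hm : f a ∈ F' ⊓ LinearMap.range f := ⟨ha ▸ F'.sub_mem hx (hs' y), a, rfl⟩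
      rw [hFi'] at hm
      obtain ⟨b, hb, hba⟩ := hm
      refine ⟨f (b + πF (d y)) + s y, F.add_mem (hF₁ _ (F₁.add_mem hb (hπF _))).1 (hs y), ?_⟩
      rw [map_add _ (f (b + πF (d y))) (s y), key]
      simp only [LinearMap.add_apply, LinearMap.id_apply, LinearMap.comp_apply, h0, map_zero, add_zero, map_add]
      rw [hba, ha]
      abel
    · rintro _ ⟨x, hx, rfl⟩
      let y : F₂ := ⟨g x, hFg ▸ ⟨x, hx, rfl⟩⟩
      obtain ⟨a, ha⟩ := (S.exact' (x - s y)).1 (by rw [map_sub, hsg]; exact sub_self _)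
      have hm : f a ∈ F ⊓ LinearMap.range f := ⟨ha ▸ F.sub_mem hx (hs y), a, rfl⟩
      rw [hFi] at hm
      obtain ⟨b, hb, hba⟩ := hm
      rw [show x = f b + s y by rw [hba, ha]; abel, map_add, key]
      simp only [LinearMap.add_apply, LinearMap.id_apply, LinearMap.comp_apply, h0, map_zero, add_zero]
      exact F'.add_mem (hF₁ _ hb).2 (F'.sub_mem (hs' y) (hF₁ _ (hπF _)).2)

end GrothLib.SummandLift
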